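set_option autoImplicit false
namespace Cfsg.Agent.Lib.Helper6.TCD.J2a
noncomputable def GT (i : Nat) : Nat := Nat.land (Nat.shiftRight 0x5e10005c20005a30005710005220005020004f20004e30004c30004b40004b20004730004520004330004130004110003f20003e30003d40003d30003c30003b40003b20003a40003a30003830003730003640003620003540003530003430003340003210003120002f30002e30002d40002d20002c40002c30002c10002b30002a40002940002930002900002640002610002420002330002230002140002040002030002000001d40001d30001d10001c30001b40001b20001a00001930001840001540001530001510001430001340001320001240001230001110000e40000e30000d30000c40000c20000b40000b30000b0000080000073000064000062000054000053000051000024000023000021000014000013000010000004000003000002000001000000 (Nat.mul 24 (Nat.land i 1023))) 16777215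
end Cfsg.Agent.Lib.Helper6.TCD.J2a
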