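set_option autoImplicit false
namespace Cfsg.Agent.Lib.Helper6.TCD.J2a
noncomputable def HR (i : Nat) : Nat := Nat.land (Nat.shiftRight 0x301000051200005110000211000040200007010000501000060100005020000412000060200008010000302000050200009010000711000020100003010000202000021200003120000501000040200004120000412000051100004020000512000050200006010000801000040100008010000512000051100004120000502000090100005120000302000041100005110000501000041100007110000411000070100003020000612000040100004020000611000031100001120000111000061200005120000311000040100007110000601000071100006010000211000031100004110000411000031200007010000501000080100002120000911000020100006010000301000061100004010000701000060200006010000501000051100006010000401000051100005010000502000010100003020000202000030100005010000502000040100001020000002000051100000010000000 (Nat.mul 28 (Nat.land i 1023))) 268435455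
end Cfsg.Agent.Lib.Helper6.TCD.J2a
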