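set_option autoImplicit false
namespace Cfsg.Agent.Lib.Helper6.TCD.J2a
noncomputable def NC (i : Nat) : Nat := Nat.land (Nat.shiftRight 0x100087000030008600064cc002180001000214001bb400085000010008600064d0002100000c0021000197300084000000008400065c000210001d000138000ad40008200003000820007dcc002080000400208001f7100082000030008100080cc00204000100020400202400080000020007f00072d0001f800000000000000010007e000040008a00083c8001f40000c001f0001ef30007c000040007c0007b90001ec0000c0022c0018320007b000020008d0007a90001e400000000000000030007900079000040001044001e4000000000000000400078000780004e0005e48001e000010001d8001c7400076000030007600071cc001d800010001d4001cf400075000000007600071c8001d40000800278001d22000740000300075000738c001cc00010001fc001ca40007200000000000000008001c800008001d8001c64000700000300077000708c001c00000800270001af10007000000000000000010001bc0001000278001d320006f000010007c0007bd0001b400000000000000030006d000030008c0005fd0001b000000000000000020006c0000000000000000c001a80000800250001a64000680000000000000000c001a0000000000000000400067000000000000000080019c000000000000000300066000040008600064900019000004002280020f200064000020008b00060cc0018c000000000000000300061000000000000000100017c00000000000000030005f000000000000000100017800000000000000020005e0000000000000000c0017400000000000000040005b000000000000000080016c00000000000000030005a0000000000000000c0016000000000000000040005700000000000000010001540000000000000002000550000000000000000c00150000000000000000100054000000000000000100014c0000000000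000003000520000000000000000000148000000000000000300051000000000000000040014400000000000000040004f000000000000000080013c00000000000000030004e000000000000000040013800000000000000040004d0000000000000000c0013000000000000000000004c000000000000000040012800000000000000040004600000000000000004001180000000000000004000440000000000000000c0010c0000000000000000000430000000000000000c00108000000000000000100042000000000000000080010400000000000000040003f0000000000000000c000f800000000000000000003e0000000000000000c000f000000000000000010003c0000000000000000c000ec00000000000000020003a00000000000000010000d8000d8000100004110003600000000000000010000d000000000000000020003400034000040001044000d000000000000000030003200000000000000004000c800000000000000020003100000000000000000000c400000000000000000002d0000000000000000c000a00000000000000001000280000000000000000c0009c0000000000000002000260000000000000001000090000000000000000300024000040003800029c800090000e00002400085300023000020002200015c80008800000000000000030002100003000390001bc00008000000000000000030001f00002000200000fc40007c00000000000000020001e000000000000000040007800008000ac0007640001c000030001c00014cc0007000008000e40006e20001b000000000000000040006c00004000ac00077400019000000003800029cc00060000080005c000472000170000000000000000c000580000000000000002000150000000000000001000050000000000000000300014000040002b0001dc800050000000000000000000014000030003800029d0000480000c000480001730001200000000000000008000440000c0009400033100010000000000000000080003c00000000000000000000f000000000000000100003000010000c00009f20000c000000000000000000003000008000b000037400007000040002c0000dc80001c0000c000ac00077400006000030000600004cc000180000000000000004000050000000000000000c000140000000000000001000050000000000000001000010000100008c0005b200004000000000000000040000c0000c000640000720000200000000000000004000080000800010000290000020000000000000001000004000000000000000100001000020000900000c00000400000000000000040000000000000040000c40000000000c0001c00003300007000040001a0000ac40001800010000600004f200005000000000000000000001000000000000000010000000000000000000010000080000000000000003000010000000000000000800000000000000000000000000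 (Nat.mul 86 (Nat.land i 511))) 77371252455336267181195263
end Cfsg.Agent.Lib.Helper6.TCD.J2a
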