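set_option autoImplicit false
namespace Cfsg.Agent.Lib.Helper6.TCD.J2a
noncomputable def NH (i : Nat) : Nat := Nat.land (Nat.shiftRight 0x31c00000000604000a4000c400016c00180800298003070005c00060c000d6000bcc001d00017c800350002f80006b000628000da000c54001b4001888004380031c000000005ee000de000c38001a000187800340003000006900060800124000c70000000018d8003c80031c00000000632000f0000bf4001780017e0003d0003090005f0005f4000c0000bd00020c00184000318003130006c00063800000000bec0019000185800370002fe0006500063800000000bd4001f4001868004000031c00000000618000e4000c70000000018e0000000030a0007b00063800000000c70000000018e0000000031c00000000606000e0000bd8001c40017f8003980031c0000000063800000000c70000000018e0000000031c0000000063800000000c70000000018e0000000031c0000000063800000000c70000000018e0000000031c0000000063800000000c70000000018e0000000031c0000000063800000000c70000000018e0000000031c0000000063800000000c70000000018e0000000031c0000000063800000000c70000000018e0000000031c0000000063800000000c70000000018e0000000031c0000000063800000000c70000000018e0000000031c0000000063800000000c70000000018e0000000031c0000000063800000000c70000000018e000000001490003600063800000000c7000000000a08001a00031c0000000063800000000c70000000018e0000000031c0000000063800000000c70000000018e0000000031c0000000063800000000c7000000000850000d8001060002900023a00050000c7000000000888000f00031c000000002380003e000c70000000018e0000000010c000270002340004c000440000900018e0000000010b0000d0002100003a00047c000840018e0000000031c0000000063800000000c7000000000870000600031c000000002120002c00045c000540018e000000001160000f00063800000000c70000000018e00000000114000140006380000000044800028000898000080010d0001300023600022000c70000000018e0000000031c000000006380000000043c000140018e0000000011900002000638000000000a8000080018e0000000031c0000000004e00002000c7000000000130000000011e0000300023000000000454000100018e0000000031c0000000063800000000c70000000018e0000000031c00000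 (Nat.mul 43 (Nat.land i 1023))) 8796093022207
end Cfsg.Agent.Lib.Helper6.TCD.J2a
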