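set_option autoImplicit false
namespace Cfsg.Agent.Lib.Helper6.TCD.J2a
noncomputable def P0 (i : Nat) : Nat := Nat.land (Nat.shiftRight 0xc77f0e0c5629d2b76acde8f5a554bb724c87ef9ecc97568d0aeddb398709c319f3a6ae5aea2418d154ab66aa02446f1da068c9a9f3c74d305e64c2c509d3142695121203c71c362c4172c5438624284911a300840608280 (Nat.mul 7 (Nat.land i 127))) 127
end Cfsg.Agent.Lib.Helper6.TCD.J2a
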