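set_option autoImplicit false
namespace Cfsg.Agent.Lib.Helper6.TCD.J2a
noncomputable def P1 (i : Nat) : Nat := Nat.land (Nat.shiftRight 0xbd8ae57b18eee19f3aadfc112cc18f028d0b76a53c7735cb8a71a2d668caa5260bdecc96b24c856a9ac34d098bf7c890ba6ed8ea84ecd2a446b96952e5949c3644c983e7900d1848d0a1238a130a40782080c5870c20001 (Nat.mul 7 (Nat.land i 127))) 127
end Cfsg.Agent.Lib.Helper6.TCD.J2a
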