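set_option autoImplicit false
namespace Cfsg.Agent.Lib.Helper6.TCD.J2a
noncomputable def P2 (i : Nat) : Nat := Nat.land (Nat.shiftRight 0xc7730e0a5427e2b75a5c88b6a5547f7df5ebb25dccb3567586cf2bb987098b8a7456c69aea2405d1d62766920aa5eddeb53cc1028686d2b246590a93eac9974c6879838886103a449143218395101048b1a3808a0600282 (Nat.mul 7 (Nat.land i 127))) 127
end Cfsg.Agent.Lib.Helper6.TCD.J2a
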