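set_option autoImplicit false
namespace Cfsg.Agent.Lib.Helper6.TCD.J2a
noncomputable def P3 (i : Nat) : Nat := Nat.land (Nat.shiftRight 0xc176d63a75f14e9986a47bd0e0d9befa33d797245b74e1bcdb145ab4acceaaf5d4a84f592d5ca92a62c484991a280fd03b7275b1c4ac939962c0aad2869528247920e1a4509f166cb071060b85261010f200460a0024303 (Nat.mul 7 (Nat.land i 127))) 127
end Cfsg.Agent.Lib.Helper6.TCD.J2a
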