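set_option autoImplicit false
namespace Cfsg.Agent.Lib.Helper6.TCD.J2a
noncomputable def Q12 (i : Nat) : Nat := Nat.land (Nat.shiftRight 0xc13ad637cf5e5d990dd4d6b85c595d4e957c4dd65ba906e47533ef2baccd1cabf19051912da2f7f61da58466a9d8126845348969c88493a66244ab628e458d647840e50c02875458d9f48048211e281132e60304000c609 (Nat.mul 7 (Nat.land i 127))) 127
end Cfsg.Agent.Lib.Helper6.TCD.J2a
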