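set_option autoImplicit false
namespace Cfsg.Agent.Lib.Helper6.TCD.J2a
noncomputable def Q16 (i : Nat) : Nat := Nat.land (Nat.shiftRight 0x871a6616ed18bca82acabb812a8980b8e2782426e09728a1ea517107858c7a2705ded7760c6966d7c7327578cc83f1d6865560aa548b11d0514d08c34c10126abee9822fc98b5345f089e6c29d920adce0299c80676a256 (Nat.mul 7 (Nat.land i 127))) 127
end Cfsg.Agent.Lib.Helper6.TCD.J2a
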