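import Cfsg.Agent.Lib.Helper6.TC11
import Cfsg.Agent.Lib.Helper6.TCD.J2a.Par
set_option autoImplicit false
set_option maxRecDepth 1000000
set_option Elab.async false
open Cfsg.Agent.Lib.Helper6.TC
namespace Cfsg.Agent.Lib.Helper6.TCD.J2a
theorem chkLab0 : chkLab lab H0 100 = true := by decide +kernel
theorem chkLab1 : chkLab lab H1 100 = true := by decide +kernel
end Cfsg.Agent.Lib.Helper6.TCD.J2a
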