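import Cfsg.Agent.Lib.Helper6.TC13
import Cfsg.Agent.Lib.Helper6.TCD.J2a.Par
set_option autoImplicit false
set_option maxRecDepth 1000000
set_option Elab.async false
open Cfsg.Agent.Lib.Helper6.TC
namespace Cfsg.Agent.Lib.Helper6.TCD.J2a
theorem chkR5_0 : chkFix R5 0 100 = true := by decide +kernel
theorem chkR6_0 : chkFix R6 0 100 = true := by decide +kernel
theorem chkR7_0 : chkFix R7 0 100 = true := by decide +kernel
theorem chkR8_0 : chkFix R8 0 100 = true := by decide +kernel
theorem chkR9_0 : chkFix R9 0 100 = true := by decide +kernel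
theorem chkR10_0 : chkFix R10 0 100 = true := by decide +kernel
theorem chkR11_0 : chkFix R11 0 100 = true := by decide +kernel
theorem chkQ12_0 : chkEqF Q12 U12 0 100 = true := by decide +kernel
theorem chkR12_0 : chkFix R12 0 100 = true := by decide +kernel
theorem chkR13_0 : chkFix R13 0 100 = true := by decide +kernel
theorem chkR14_0 : chkFix R14 0 100 = true := by decide +kernel
theorem chkR15_0 : chkFix R15 0 100 = true := by decide +kernel
theorem chkQ16_0 : chkEqF Q16 U16 0 100 = true := by decide +kernel
theorem chkR16_0 : chkFix R16 0 100 = true := by decide +kernel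
end Cfsg.Agent.Lib.Helper6.TCD.J2a
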