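set_option autoImplicit false
namespace Cfsg.Agent.Lib.Helper6.TCD.J2a
noncomputable def P4 (i : Nat) : Nat := Nat.land (Nat.shiftRight 0xc176de3a75f14fc32eb47bd66242befdec5b8ee4bab4e66b6b0d68556751930a4b68ac9d3252a532232687052404281f3c3ae1ba536d143130557ae344d5924e7c723223110b3c70b880c642962808190023c6801228384 (Nat.mul 7 (Nat.land i 127))) 127
end Cfsg.Agent.Lib.Helper6.TCD.J2a
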